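import Cfsg.Agent.H320.OZ.F4In
import Cfsg.Agent.H858.OZ.F4Out

/-!
# S4842, row `F₄(q)`, `q ≥ 3`: the end, from helper589's `main` (helper320)

* `Main` : the text of helper589's `main`;
* `none_F4_of_main`.
-/

set_option autoImplicit false
set_option linter.unusedSectionVars false

open Cfsg

namespace Cfsg.Agent.H320.OZ.F4Fin

universe u

open CoxeterSystem Cfsg.Agent.ChevalleyStructure.CoxeterGeom Cfsg.Agent.Tits.Roots Cfsg.Agent.Tits.Core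
  Cfsg.Agent.Tits.Exchange Cfsg.Agent.Nodes.Reps Cfsg.Agent.Nodes.BNOf Cfsg.Agent.Nodes.StabComb
  Cfsg.Agent.Nodes.Bruhat Cfsg.Agent.Nodes.OppDec Cfsg.Agent.Nodes.LeviDec Cfsg.Agent.H985.VZ Module
open Cfsg.Agent.H589.FF Cfsg.Lie Cfsg.Lie.ChevalleyDatum Cfsg.Agent.ChevalleyStructure
  Cfsg.Agent.ChevalleyStructure.Elts Cfsg.Agent.ChevalleyStructure.CoxeterGeomTypes
  Cfsg.Agent.ChevalleyStructure.NPerm Cfsg.Agent.Nodes Cfsg.Agent.Nodes.RGDChev Cfsg.Agent.KFacts.RgdChevCoord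
  Cfsg.Agent.KFacts.RgdField Cfsg.Agent.GenExc.Chev Cfsg.Agent.H730.OZ Cfsg.Agent.Characters

/-- the statement of helper589's `main` -/
def Main : Prop :=
  ∀ {W Y : Type} [Group W] [Finite W] [Group Y] [Finite Y] {cs : CoxeterSystem CoxeterMatrix.F₄ W}
    {A : Fin 4 → Fin 4 → ℤ} {h : IsCartan CoxeterMatrix.F₄ A} {p : ℕ} {T : Subgroup Y} {n : Fin 4 → Y}
    {X : (Fin 4 → ℤ) → Subgroup Y} {q : ℕ} (_ : RGD cs h p T n X) (_ : GG cs h T X = ⊤)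
    (_ : ∀ i, Nat.card (X (sr i)) = q) (_ : 2 ≤ q) {V : Type} [AddCommGroup V] [Module ℂ V] [FiniteDimensional ℂ V]
    {ρ : Representation ℂ Y V} (_ : ρ.IsIrreducible) (_ : fx ρ (RGD.B cs h T X) ≠ ⊥)
    (_ : WF.mm3 (fun K => (finrank ℂ (fx ρ (PJ cs h T X K)) : ℤ)) 0 1 3 ≠ 0)
    (_ : WF.mm3 (fun K => (finrank ℂ (fx ρ (PJ cs h T X K)) : ℤ)) 3 2 0 ≠ 0)
    (_ : finrank ℂ (fx ρ (PJ cs h T X {0})) + finrank ℂ (fx ρ (PJ cs h T X {3})) = finrank ℂ (fx ρ (RGD.B cs h T X))),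
    8 * (finrank ℂ V : ℤ) = q ^ 4 * (1 + q ^ 2) ^ 2 * (q ^ 2 - q + 1) ^ 2 * (1 + q ^ 4) * (q ^ 4 - q ^ 2 + 1) ∨
      4 * (finrank ℂ V : ℤ) = q ^ 4 * (1 + q) ^ 2 * (1 + q ^ 2) * (q ^ 2 - q + 1) ^ 2 * (1 + q ^ 4) *
        (q ^ 4 - q ^ 2 + 1)

/-- no irreducible character of `F₄(q)`, `q ≥ 3`, vanishes on exactly one class -/
theorem none_F4_of_main (hmain : Main) {F : Type} [Field F] [Fintype F] {p a : ℕ} (hp : p.Prime) (ha : 0 < a)
    (hF : Fintype.card F = p ^ a) (hq : 3 ≤ p ^ a) (χ : ↥(chevF4.group F) → ℂ) (hχ : IsIrrCharacter _ χ) :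
    ¬ OneZero χ := by
  intro h1
  obtain ⟨hS, r, hr, hr2, hrq, hnd⟩ := Cfsg.Agent.H858.OZ.out_F4 hp ha hF hq hχ h1
  apply hnd
  have hdeg := Cfsg.Agent.H686.CharKit.charDegree_cast (Core.isIrr_isCharacter hχ)
  obtain ⟨m, ρ, hρ, rfl⟩ := hχ
  have hd : charDegree ρ.character = finrank ℂ (Fin m → ℂ) := by
    rw [Representation.char_one] at hdeg
    exact_mod_cast hdeg
  have : Fact p.Prime := ⟨hp⟩
  have : CharP F p := charP_of_card_eq_prime_pow hF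
  let cs := CoxeterMatrix.F₄.toCoxeterSystem
  have := finite_W isType_F4 cs
  have : Finite ↥(chevF4.group F) := inferInstance
  have R := rgd (K := F) isType_F4 cs p
  have hG : GG cs isType_F4.isCartan (TT chevF4 F) (XX chevF4 4 F) = ⊤ :=
    Cfsg.Agent.KFacts.RgdRigid.GG_eq_top (T := TT chevF4 F) (G1_eq_top isType_F4 cs)
  obtain ⟨h0, hm, hm', hdet⟩ := Cfsg.Agent.H320.OZ.F4In.inner cs hp ha hF hq hρ h1 hS
  have h2 := hmain R hG (q := p ^ a) (fun i => by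
    rw [← hF]
    exact Cfsg.Agent.ClosedExc.Chev.card_XX isType_F4 F cs (isRoot_sr _ _ i)) (by omega) hρ h0 hm hm' hdet
  have h3 := Cfsg.Agent.H858.OZ.contra_F4 (q := p ^ a) (D := (finrank ℂ (Fin m → ℂ) : ℤ)) hr hr2 hrq (by
    push_cast at h2 ⊢
    exact h2)
  rw [hd]
  exact Int.natCast_dvd_natCast.1 h3

/-- the row, from `main` and the case `q = 2` -/
theorem row_F4_of (hmain : Main)
    (htwo : ∀ (F : Type) [Field F] [Fintype F], Fintype.card F = 2 → IsSimpleGroup ↥(chevF4.group F) →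
      Row ↥(chevF4.group F)) {S : Type u} [Group S] [Finite S] (hs : IsSimpleGroup S) (h : Lie.IsoF4 S) : Row S := by
  obtain ⟨F, i1, i2, ⟨e⟩⟩ := h
  obtain ⟨p, hc⟩ := CharP.exists F
  obtain ⟨a, hp, ha⟩ := FiniteField.card F p
  have hs' : IsSimpleGroup ↥(chevF4.group F) := (MulEquiv.isSimpleGroup_congr e).1 hs
  refine Row.congr e ?_
  have h2 : 2 ≤ p ^ (a : ℕ) := hp.two_le.trans (Nat.le_self_pow a.pos.ne' p)
  rcases Nat.lt_or_ge 2 (p ^ (a : ℕ)) with h3 | h3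
  · exact Row.of_none (none_F4_of_main hmain hp a.pos ha h3)
  · exact htwo F (by rw [ha]; omega) hs'

end Cfsg.Agent.H320.OZ.F4Fin
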