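import Cfsg.Agent.H3.Ore.Fi22Nine
import Cfsg.Agent.H559.FiSpec

/-!
# `Fi22`: the class `9C` (helper320, for S4842)

`yE = m.wd wyE` has order 9, its cube fixes no point.
* `conjE` : every element of 3-power order whose cube fixes no point is conjugate to `yE`; `ratE`: `yE` is rational;
* `card_centE` : `|C(yE)| = 27`.
-/

set_option autoImplicit false
set_option maxRecDepth 100000
set_option exponentiation.threshold 5000
set_option linter.style.longLine false
set_option linter.constructorNameAsVariable false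

namespace Cfsg.Agent.H320.OZ.FiE

open Cfsg.Spor Cfsg.Spor.Fi22 Cfsg.Agent.Lib.PermNet Cfsg.Agent.Lib.PermNetOrbit Cfsg.Agent.Lib.PermNetFix
open Cfsg.Agent.Fischer Cfsg.Agent.Fischer.Fi22PtsRep
open Cfsg.Agent.H834 Cfsg.Agent.H834.AC Cfsg.Agent.H834.RC Cfsg.Agent.H834.ZC
open Cfsg.Agent.H3.Ore.FC Cfsg.Agent.H3.Ore.FR Cfsg.Agent.H3.Ore.FN
open Cfsg.Agent.H836 Cfsg.Agent.R01.FiFusion Cfsg.Agent.R01.FiFacts
open Subgroup

section gen

variable {G : Type*} [Group G] {D : Set G} (m : Model G D)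

/-- the element of order 9 -/
noncomputable def yE : G := m.wd wyE

theorem cubeE : yE m ^ 3 = m.wd (wyE ++ (wyE ++ wyE)) := by
  rw [yE, m.wd_append, m.wd_append, pow_succ, pow_two, mul_assoc]

theorem nineE : yE m ^ 9 = 1 := by
  have h1 := m.cube_of_cub chkE9
  rw [← cubeE] at h1
  rw [show (9 : ℕ) = 3 * 3 by norm_num, pow_mul, h1]

/-- no fixed point -/
def NoFix (g : G) : Prop := ∀ p < 3510, m.φ g p ≠ p

variable {m}

theorem NoFix.conj {g : G} (h : NoFix m g) (c : G) : NoFix m (c * g * c⁻¹) := by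
  intro p hp he
  refine h (m.φ c⁻¹ p) (m.φ_lt _ hp) ?_
  have h1 : m.φ c⁻¹ (m.φ (c * g * c⁻¹) p) = m.φ c⁻¹ p := by rw [he]
  rw [← Equiv.Perm.mul_apply, ← map_mul] at h1
  have e : c⁻¹ * (c * g * c⁻¹) = g * c⁻¹ := by group
  rw [e, map_mul, Equiv.Perm.mul_apply] at h1
  exact h1

theorem NoFix.ne_one {g : G} (h : NoFix m g) : g ≠ 1 := by
  rintro rfl
  exact h 0 (by norm_num) (by rw [map_one, Equiv.Perm.one_apply])

theorem not_noFix {g : G} (h : m.nfix g ≠ 0) : ¬ NoFix m g := by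
  intro hf
  apply h
  unfold Model.nfix
  rw [Set.ncard_eq_zero (by exact (Set.finite_lt_nat 3510).subset fun p hp => hp.1), Set.eq_empty_iff_forall_notMem]
  rintro p ⟨hp, h1⟩
  exact hf p hp h1

variable (m)

theorem noFixE : NoFix m (yE m ^ 3) := by
  intro p hp h
  rw [cubeE, ← m.testBit_fixm hp, Nat.eq_of_beq_eq_true chkE, Nat.zero_testBit] at h
  exact Bool.false_ne_true h

theorem orderE : orderOf (yE m) = 9 := by
  have h3 : ¬ yE m ^ 3 ^ 1 = 1 := by rw [pow_one]; exact (noFixE m).ne_one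
  have h9 : yE m ^ 3 ^ (1 + 1) = 1 := nineE m
  have : Fact (Nat.Prime 3) := ⟨Nat.prime_three⟩
  have h := orderOf_eq_prime_pow h3 h9
  rw [h]; norm_num

/-- a nontrivial element of `A` fixes points -/
theorem A_fix {v : V5} : ¬ NoFix m (m.κ v) := by
  by_cases hv : v = 0
  · subst hv
    rw [m.κ_zero]
    exact fun h => h.ne_one rfl
  · obtain ⟨r, -, h | h | h⟩ := m.trich hv
    · rw [← h]
      apply not_noFix
      rw [m.nfix_conj, m.nfix_w1]; norm_num
    · rw [← h]
      apply not_noFix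
      rw [m.nfix_conj, m.nfix_w2]; norm_num
    · rw [← h]
      apply not_noFix
      rw [m.nfix_conj, m.nfix_w0]; norm_num

theorem not_noFix_of {w : List Gen} {F : List ℕ} (h : Nat.beq (fixm w) (msk (F.map pt)) = true) {n : ℕ} (hn : n ∈ F)
    {y g : G} (hy : g * y * g⁻¹ = m.wd w) : ¬ NoFix m (y ^ 3) := by
  intro hf
  have h1 := hf.conj g
  have h2 : g * y ^ 3 * g⁻¹ = m.wd w ^ 3 := by rw [← hy, conj_pow]
  rw [h2] at h1
  have h3 := (m.fix_of_msk h).2 n hn
  refine h1 (pt n) (m.pt_lt' n) ?_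
  rw [pow_succ, pow_two, map_mul, map_mul, Equiv.Perm.mul_apply, Equiv.Perm.mul_apply, h3, h3, h3]

/-- **the class of `yE`** -/
theorem conjE {y : G} {n : ℕ} (hy : y ^ 3 ^ n = 1) (hf : NoFix m (y ^ 3)) : ∃ g : G, g * y * g⁻¹ = yE m := by
  obtain ⟨-, h | ⟨g, h | h | h⟩⟩ := m.cls_three hy
  · exact absurd h hf.ne_one
  · exact absurd hf (not_noFix_of m chkA (n := 2) (by decide) h)
  · exact absurd hf (not_noFix_of m chkB (n := 0) (by decide) h)
  · exact ⟨g, h⟩

theorem noFix_pow {k : ℕ} (hk : k.Coprime 3) : NoFix m ((yE m ^ 3) ^ k) := by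
  intro p hp he
  refine noFixE m p hp ?_
  have h3 : (yE m ^ 3) ^ 3 = 1 := by rw [← pow_mul]; exact nineE m
  obtain ⟨j, hj⟩ : ∃ j, k * j % 3 = 1 := by
    have h1 : k % 3 = 1 ∨ k % 3 = 2 := by
      have h2 : ¬ 3 ∣ k := fun h => by
        have := Nat.dvd_gcd h (dvd_refl 3)
        rw [hk] at this
        norm_num at this
      omega
    rcases h1 with h1 | h1
    · exact ⟨1, by omega⟩
    · exact ⟨2, by omega⟩
  have h4 : ((yE m ^ 3) ^ k) ^ j = yE m ^ 3 := by
    rw [← pow_mul, pow_eq_pow_mod _ h3, hj, pow_one]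
  rw [← h4, map_pow]
  exact Equiv.Perm.pow_apply_eq_self_of_apply_eq_self he j

/-- `yE` is rational -/
theorem ratE {k : ℕ} (hk : k.Coprime 3) : IsConj (yE m ^ k) (yE m) := by
  have h9 := nineE m
  obtain ⟨g, hg⟩ := conjE m (y := yE m ^ k) (n := 2) (by
    rw [← pow_mul, mul_comm, pow_mul, show (3 : ℕ) ^ 2 = 9 by norm_num, h9, one_pow]) (by
    rw [← pow_mul, mul_comm, pow_mul]
    exact noFix_pow m hk)
  exact isConj_iff.2 ⟨g, hg⟩

/-- no 2-element commutes with `yE` -/
theorem twoE (I : Inv G D) {t : G} {e : ℕ} (ht : t ^ 2 ^ e = 1) (hc : yE m * t = t * yE m) : t = 1 := by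
  have e9 := nineE m
  have hno := noFixE m
  have hnf : ∀ p < 3510, m.φ (yE m) p = p → ∃ n ∈ ([] : List ℕ), p = pt n := by
    intro p hp h
    exfalso
    refine hno p hp ?_
    rw [pow_succ, pow_two, map_mul, map_mul, Equiv.Perm.mul_apply, Equiv.Perm.mul_apply, h, h, h]
  have htri : ∀ a b c : G, Tri D a b c → yE m * (a * b * c) = a * b * c * yE m → False := by
    intro a b c h1 h2
    obtain ⟨ca, -⟩ := m.cube_hex I e9 h1 h2
    obtain ⟨p, hp, rfl⟩ := m.mem_iff.1 h1.mx
    exact hno p hp ((m.comm_iff _ hp).1 ca.eq)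
  rcases m.two_part I e9 htri (F := []) (by simp) rfl hnf (by simp) ht hc with
    h | ⟨n, hn, h⟩ | ⟨n, hn, k, hk, hnk, hcm, h⟩
  · exact h
  · simp at hn
  · simp at hn

/-! ### the centralizer in the Sylow subgroup -/

/-- of order 9 -/
def nine (n : ℕ) : Bool := not (Nat.beq (mulN n (mulN n n)) 0)

theorem chk9 : ((List.range 81).all fun n => or (not (nine n))
    (Nat.beq ((List.range 81).filter fun k => Nat.beq (mulN n k) (mulN k n)).length 9)) = true := by decide +kernel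

theorem chk3 : ((List.range 81).all fun n => or (not (nine n)) (Nat.beq (pc 12 (Fl.getD n 0)) 3)) = true := by
  decide +kernel

theorem chk3lt : (Fl.all fun f => Nat.beq (Nat.shiftRight f (Nat.pow 2 12)) 0) = true := by decide +kernel

theorem card_K {n : ℕ} (hn : n < 81) (h9 : nine n = true) :
    Nat.card {k : Fin 81 // mulN n k = mulN k n} ≤ 9 := by
  have h := chk9
  rw [List.all_eq_true] at h
  have h1 := h n (List.mem_range.2 hn)
  rw [h9, Bool.not_true, Bool.false_or] at h1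
  have h2 := Nat.eq_of_beq_eq_true h1
  have h3 : Nat.card {k : Fin 81 // mulN n k = mulN k n}
      ≤ ((List.range 81).filter fun k => Nat.beq (mulN n k) (mulN k n)).toFinset.card := by
    rw [← Fintype.card_coe, ← Nat.card_eq_fintype_card]
    refine Nat.card_le_card_of_injective (fun k => ⟨(k.1 : ℕ), ?_⟩) ?_
    · rw [List.mem_toFinset, List.mem_filter]
      exact ⟨List.mem_range.2 k.1.2, by rw [k.2]; exact Nat.beq_refl _⟩
    · intro k l hkl
      exact Subtype.ext (Fin.ext (congrArg Subtype.val hkl))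
  have h4 := List.toFinset_card_le ((List.range 81).filter fun k => Nat.beq (mulN n k) (mulN k n))
  omega

theorem card_CA {n : ℕ} (hn : n < 81) (h9 : nine n = true) :
    Nat.card {v : V5 // m.ψ n * m.κ v = m.κ v * m.ψ n} ≤ 3 := by
  have h := chk3
  rw [List.all_eq_true] at h
  have h1 := h n (List.mem_range.2 hn)
  rw [h9, Bool.not_true, Bool.false_or] at h1
  have h2 := chk3lt
  rw [List.all_eq_true] at h2
  have hk : n < Fl.length := by rw [Fllen]; exact hn
  have h3 : Nat.beq (Nat.shiftRight (Fl.getD n 0) (Nat.pow 2 12)) 0 = true := by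
    rw [List.getD_eq_getElem _ _ hk]
    exact h2 _ (List.getElem_mem hk)
  have h4 := ncard_testBit h3 h1
  have h5 : Set.Finite {p : ℕ | (Fl.getD n 0).testBit p = true} :=
    Set.finite_of_ncard_ne_zero (by rw [h4]; norm_num)
  rw [← h4, ← Nat.card_coe_set_eq]
  have := h5.to_subtype
  refine Nat.card_le_card_of_injective (fun v => (⟨m.pv v.1, (m.Fl_iff hn v.1).2 v.2⟩ :
    {p : ℕ | (Fl.getD n 0).testBit p = true})) ?_
  intro u v huv
  exact Subtype.ext (m.pv_injective (congrArg Subtype.val huv))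

theorem card_le {v : V5} {n : ℕ} (hn : n < 81) (h9 : nine n = true) (C : Subgroup G)
    (hC : ∀ c ∈ C, c ∈ m.P0 ∧ c * (m.κ v * m.ψ n) = m.κ v * m.ψ n * c) : Nat.card C ≤ 27 := by
  classical
  have hfin := m.finite
  have := Fintype.ofFinite C
  have hex : ∀ c : C, ∃ k : Fin 81, ∃ u : V5, (c : G) = m.κ u * m.ψ k := fun c => by
    obtain ⟨u, k, hk, h⟩ := (hC c c.2).1
    exact ⟨⟨k, hk⟩, u, h⟩
  choose f hf using hex
  have hK : ∀ c : C, mulN n (f c) = mulN (f c) n := by
    intro c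
    obtain ⟨u, hu⟩ := hf c
    have h1 := (hC c c.2).2
    rw [hu] at h1
    obtain ⟨u', hu'⟩ := m.ψ_conj n u
    obtain ⟨v', hv'⟩ := m.ψ_conj (f c) v
    have e1 : m.κ u * m.ψ (f c) * (m.κ v * m.ψ n) = m.κ (u + v') * m.ψ (mulN (f c) n) := by
      calc m.κ u * m.ψ (f c) * (m.κ v * m.ψ n) = m.κ u * (m.ψ (f c) * m.κ v) * m.ψ n := by group
        _ = m.κ u * m.κ v' * (m.ψ (f c) * m.ψ n) := by rw [hv']; group
        _ = _ := by rw [← m.κ_add, m.ψ_mul (f c).2]
    have e2 : m.κ v * m.ψ n * (m.κ u * m.ψ (f c)) = m.κ (v + u') * m.ψ (mulN n (f c)) := by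
      calc m.κ v * m.ψ n * (m.κ u * m.ψ (f c)) = m.κ v * (m.ψ n * m.κ u) * m.ψ (f c) := by group
        _ = m.κ v * m.κ u' * (m.ψ n * m.ψ (f c)) := by rw [hu']; group
        _ = _ := by rw [← m.κ_add, m.ψ_mul hn]
    rw [e1, e2] at h1
    exact (m.decomp (mulN_lt _ _) (mulN_lt _ _) h1).2.symm
  have h1 := Finset.card_le_mul_card_image (f := f) (Finset.univ : Finset C) 3 ?_
  · have h2 : (Finset.univ.image f).card ≤ 9 := by
      refine le_trans ?_ (card_K hn h9)
      rw [← Fintype.card_coe, ← Nat.card_eq_fintype_card]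
      refine Nat.card_le_card_of_injective (fun k => ⟨(k.1 : Fin 81), ?_⟩) ?_
      · obtain ⟨c, -, h⟩ := Finset.mem_image.1 k.2
        rw [← h]
        exact hK c
      · intro k l hkl
        rw [Subtype.mk.injEq] at hkl
        exact Subtype.ext hkl
    rw [Finset.card_univ] at h1
    rw [Nat.card_eq_fintype_card]
    omega
  · intro a ha
    obtain ⟨c0, -, hc0⟩ := Finset.mem_image.1 ha
    obtain ⟨u0, hu0⟩ := hf c0
    refine le_trans ?_ (card_CA m hn h9)
    rw [← Fintype.card_coe, ← Nat.card_eq_fintype_card]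
    have key : ∀ x : {x : C // x ∈ Finset.univ.filter fun x => f x = a}, ∃ w : V5, ((x : C) : G) * (c0 : G)⁻¹ = m.κ w ∧
        m.ψ n * m.κ w = m.κ w * m.ψ n := by
      intro x
      have hx := (Finset.mem_filter.1 x.2).2
      obtain ⟨u, hu⟩ := hf x.1
      rw [hx.trans hc0.symm] at hu
      have e : ((x : C) : G) * (c0 : G)⁻¹ = m.κ (u + -u0) := by
        rw [hu, hu0, m.κ_add, m.κ_neg]; group
      refine ⟨_, e, ?_⟩
      have h2 : ((x : C) : G) * (c0 : G)⁻¹ ∈ C := mul_mem x.1.2 (inv_mem c0.2)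
      have h3 := (hC _ h2).2
      rw [e] at h3
      have h4 := m.κ_comm v (u + -u0)
      set w := u + -u0
      have h5 : m.κ v * (m.κ w * m.ψ n) = m.κ v * (m.ψ n * m.κ w) := by
        rw [← mul_assoc, h4, mul_assoc, h3, mul_assoc]
      exact (mul_left_cancel h5).symm
    choose w hw using key
    refine Nat.card_le_card_of_injective (fun x => ⟨w x, (hw x).2⟩) ?_
    intro x y hxy
    have h2 : w x = w y := congrArg Subtype.val hxy
    have h3 := (hw x).1
    rw [h2, ← (hw y).1] at h3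
    exact Subtype.ext (Subtype.ext (mul_right_cancel h3))

/-- an element of `P0` of order 9 modulo `A` if its cube fixes no point -/
theorem nine_of {v : V5} {n : ℕ} (hn : n < 81) (hf : NoFix m ((m.κ v * m.ψ n) ^ 3)) : nine n = true := by
  by_contra hne
  have h0 : mulN n (mulN n n) = 0 := by
    unfold nine at hne
    rw [Bool.not_eq_true', Bool.not_eq_false] at hne
    exact Nat.eq_of_beq_eq_true hne
  obtain ⟨v1, h1⟩ := m.ψ_conj n v
  obtain ⟨v2, h2⟩ := m.ψ_conj n v1
  have e : (m.κ v * m.ψ n) ^ 3 = m.κ (v + v1 + v2) := by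
    calc (m.κ v * m.ψ n) ^ 3 = m.κ v * (m.ψ n * m.κ v) * (m.ψ n * m.κ v) * m.ψ n := by
          simp only [pow_succ, pow_zero, one_mul, mul_assoc]
      _ = m.κ v * m.κ v1 * (m.ψ n * m.κ v1) * m.ψ n * m.ψ n := by rw [h1]; group
      _ = m.κ v * m.κ v1 * m.κ v2 * (m.ψ n * (m.ψ n * m.ψ n)) := by rw [h2]; group
      _ = _ := by rw [m.ψ_mul hn, m.ψ_mul hn, h0, m.ψ_zero, m.κ_add, m.κ_add, mul_one]
  rw [e] at hf
  exact A_fix m hf

/-- the vector fixed by `yE` -/
noncomputable def zE : G := m.κ (vec 139)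

theorem zE_comm : Commute (zE m) (yE m) := by
  have h1 : yE m = m.κ (vec 2) * m.wd (rho 3) := by
    rw [yE, ← eyE, m.wd_append, m.κ_word]; rfl
  have h2 := (m.act_word (w := rho 3) (by decide) (n := 139) (by norm_num)).2
  have h3 : apw (rho 3) 139 = 139 := by decide +kernel
  rw [h3] at h2
  have h4 : Commute (m.wd (rho 3)) (m.κ (vec 139)) := mul_inv_eq_iff_eq_mul.1 h2
  rw [h1, zE]
  exact (show Commute (m.κ (vec 139)) (m.κ (vec 2)) from m.κ_comm _ _).mul_right h4.symm

theorem zE_ne : zE m ≠ 1 := by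
  intro h
  rw [zE, ← m.κ_zero] at h
  have h1 := m.κ_injective h
  revert h1
  decide

theorem zE_cube : zE m ^ 3 = 1 := m.elemA.2 _ (m.κ_mem _)

theorem zE_not : zE m ∉ zpowers (yE m) := by
  intro h
  have hfin := m.finite
  obtain ⟨j, hj⟩ := mem_powers_iff_mem_zpowers.2 h
  have hj : yE m ^ j = zE m := hj
  have h1 : yE m ^ (3 * j) = 1 := by rw [mul_comm, pow_mul, hj, zE_cube]
  have h2 := orderOf_dvd_of_pow_eq_one h1
  rw [orderE] at h2
  obtain ⟨i, rfl⟩ : 3 ∣ j := by
    have : 3 * 3 ∣ 3 * j := h2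
    exact (Nat.mul_dvd_mul_iff_left (by norm_num)).1 this
  have hi : i.Coprime 3 := by
    rw [Nat.coprime_comm, Nat.Prime.coprime_iff_not_dvd Nat.prime_three]
    rintro ⟨l, rfl⟩
    apply zE_ne m
    rw [← hj, show 3 * (3 * l) = 9 * l by ring, pow_mul, nineE, one_pow]
  have h3 := noFix_pow m hi
  rw [← pow_mul, hj] at h3
  exact A_fix m h3

end gen

section iso

open Cfsg.Agent.KFacts.FiTT

variable {G : Type*} [Group G] (e : G ≃* Spor.Fi22) (m : Model G (TK e))

theorem prime_cases {r : ℕ} (hr : r.Prime) (h : r ∣ 64561751654400) :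
    r = 2 ∨ r = 3 ∨ r = 5 ∨ r = 7 ∨ r = 11 ∨ r = 13 := by
  have e : 64561751654400 = 2 ^ 17 * (3 ^ 9 * (5 ^ 2 * (7 * (11 * 13)))) := by norm_num
  rw [e] at h
  have k : ∀ {s : ℕ}, s.Prime → r ∣ s → r = s := fun hs h => (Nat.prime_dvd_prime_iff_eq hr hs).1 h
  rcases hr.dvd_mul.1 h with h | h
  · exact .inl (k (by norm_num) (hr.dvd_of_dvd_pow h))
  rcases hr.dvd_mul.1 h with h | h
  · exact .inr (.inl (k (by norm_num) (hr.dvd_of_dvd_pow h)))
  rcases hr.dvd_mul.1 h with h | h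
  · exact .inr (.inr (.inl (k (by norm_num) (hr.dvd_of_dvd_pow h))))
  rcases hr.dvd_mul.1 h with h | h
  · exact .inr (.inr (.inr (.inl (k (by norm_num) h))))
  rcases hr.dvd_mul.1 h with h | h
  · exact .inr (.inr (.inr (.inr (.inl (k (by norm_num) h)))))
  · exact .inr (.inr (.inr (.inr (.inr (k (by norm_num) h)))))

include m in
/-- the centralizer is a 3-group -/
theorem pgroup_centE {r : ℕ} (hr : r.Prime) (h : r ∣ Nat.card (centralizer ({yE m} : Set G))) : r = 3 := by
  have I := inv_of_iso e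
  have hfin := I.ctx.finite
  have hG : r ∣ Nat.card G := h.trans (card_subgroup_dvd_card _)
  rw [Cfsg.Agent.H559.FiSpec.card_eq ⟨e⟩] at hG
  have hF : Fact r.Prime := ⟨hr⟩
  obtain ⟨z, hz⟩ := exists_prime_orderOf_dvd_card' r h
  have hz' : orderOf (z : G) = r := by rw [orderOf_coe, hz]
  have hc : (z : G) * yE m = yE m * z := mem_centralizer_singleton_iff.1 z.2
  have h9 : 9 ∣ Nat.card (centralizer ({(z : G)} : Set G)) := by
    have h1 : orderOf (⟨yE m, mem_centralizer_singleton_iff.2 hc.symm⟩ : centralizer ({(z : G)} : Set G)) = 9 := by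
      rw [← orderE m, ← orderOf_coe]
    rw [← h1]
    exact orderOf_dvd_natCard _
  rcases prime_cases hr hG with rfl | rfl | rfl | rfl | rfl | rfl
  · exfalso
    have h1 : (z : G) = 1 := twoE m I (e := 1) (by rw [pow_one, ← hz', pow_orderOf_eq_one]) hc.symm
    rw [h1, orderOf_one] at hz'
    norm_num at hz'
  · rfl
  · rw [Cfsg.Agent.H559.FiSpec.cent5 ⟨e⟩ hz'] at h9; norm_num at h9
  · rw [Cfsg.Agent.H559.FiSpec.cent7 ⟨e⟩ hz'] at h9; norm_num at h9
  · rw [Cfsg.Agent.H559.FiSpec.cent11 ⟨e⟩ hz'] at h9; norm_num at h9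
  · rw [Cfsg.Agent.H559.FiSpec.cent13 ⟨e⟩ hz'] at h9; norm_num at h9

include m in
/-- **`|C(yE)| = 27`** -/
theorem card_centE : Nat.card (centralizer ({yE m} : Set G)) = 27 := by
  have I := inv_of_iso e
  have hfin := I.ctx.finite
  have h3 : Fact (Nat.Prime 3) := ⟨Nat.prime_three⟩
  set C := centralizer ({yE m} : Set G) with hCdef
  have hyC : yE m ∈ C := by rw [hCdef, mem_centralizer_singleton_iff]
  have hzC : zE m ∈ C := by rw [hCdef, mem_centralizer_singleton_iff]; exact (zE_comm m).eq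
  have hc0 : Nat.card C ≠ 0 := Nat.card_pos.ne'
  have hpow : Nat.card C = 3 ^ (Nat.card C).primeFactorsList.length :=
    Nat.eq_prime_pow_of_unique_prime_dvd hc0 fun {r} hr hd => pgroup_centE e m hr hd
  have hp : IsPGroup 3 C := IsPGroup.of_card hpow
  -- the upper bound
  have hle : Nat.card C ≤ 27 := by
    obtain ⟨Q, hQ⟩ := m.isPGroup_P0.exists_le_sylow
    have h1 := m.isSylow_P0 hQ
    obtain ⟨P, hP⟩ := hp.exists_le_sylow
    obtain ⟨g, hg⟩ := MulAction.exists_smul_eq G P Q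
    have hmem : ∀ c ∈ C, g * c * g⁻¹ ∈ m.P0 := by
      intro c hc
      rw [← h1, ← hg, Sylow.coe_subgroup_smul]
      exact ⟨c, hP hc, rfl⟩
    obtain ⟨v, n, hn, hvn⟩ := hmem _ hyC
    have h9 : nine n = true := by
      refine nine_of m (v := v) hn ?_
      rw [← hvn, conj_pow]
      exact (noFixE m).conj g
    have h2 := card_le m hn h9 (C.map (MulAut.conj g).toMonoidHom) (v := v) (by
      rintro _ ⟨c, hc, rfl⟩
      refine ⟨hmem c hc, ?_⟩
      rw [← hvn]
      have h4 : c * yE m = yE m * c := mem_centralizer_singleton_iff.1 hc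
      show g * c * g⁻¹ * (g * yE m * g⁻¹) = g * yE m * g⁻¹ * (g * c * g⁻¹)
      calc g * c * g⁻¹ * (g * yE m * g⁻¹) = g * (c * yE m) * g⁻¹ := by group
        _ = g * (yE m * c) * g⁻¹ := by rw [h4]
        _ = _ := by group)
    rwa [card_map_of_injective (MulAut.conj g).injective] at h2
  -- the lower bound
  set k := (Nat.card C).primeFactorsList.length with hk
  have hY : zpowers (yE m) ≤ C := by rw [zpowers_le]; exact hyC
  have hYc : Nat.card (zpowers (yE m)) = 9 := by rw [Nat.card_zpowers, orderE]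
  have hne : Nat.card C ≠ 9 := by
    intro h9
    have h4 : zpowers (yE m) = C := eq_of_le_of_card_ge hY (by rw [h9, hYc])
    exact zE_not m (h4 ▸ hzC)
  have hd : 9 ∣ Nat.card C := by rw [← hYc]; exact card_dvd_of_le hY
  rw [hpow] at hle hne hd ⊢
  have hk2 : 2 ≤ k := by
    have : 3 ^ 2 ∣ 3 ^ k := hd
    exact (Nat.pow_dvd_pow_iff_le_right (by norm_num)).1 this
  have hk3 : k ≤ 3 := by
    have : 3 ^ k ≤ 3 ^ 3 := hle
    exact (Nat.pow_le_pow_iff_right (by norm_num)).1 this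
  have hk4 : k ≠ 2 := by
    intro h4
    rw [h4] at hne
    norm_num at hne
  have h5 : k = 3 := by omega
  rw [h5]; norm_num

end iso

end Cfsg.Agent.H320.OZ.FiE
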