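import Cfsg.Agent.H320.OZ.F4Fin
import Cfsg.Agent.H589.FF.Main

/-!
# S4842, row `F₄(q)`, `q ≥ 3` (helper320, with helper589's `main` and helper858's outer part)

* `none_F4` : no irreducible character of `F₄(q)`, `q ≥ 3`, vanishes on exactly one class;
* `row_F4` : the row, from the case `q = 2`.
-/

set_option autoImplicit false

open Cfsg

namespace Cfsg.Agent.H320.OZ

open Cfsg.Lie Cfsg.Agent.H730.OZ

universe u

theorem main_F4 : F4Fin.Main := fun R hG hq hq2 _ _ _ _ _ hρ h0 hm hm' hdet =>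
  Cfsg.Agent.H589.FF.main R hG hq hq2 hρ h0 hm hm' hdet

/-- **`F₄(q)`, `q ≥ 3`** -/
theorem none_F4 {F : Type} [Field F] [Fintype F] (hF : 3 ≤ Fintype.card F) (χ : ↥(chevF4.group F) → ℂ)
    (hχ : IsIrrCharacter _ χ) : ¬ OneZero χ := by
  obtain ⟨p, hc⟩ := CharP.exists F
  obtain ⟨a, hp, ha⟩ := FiniteField.card F p
  exact F4Fin.none_F4_of_main main_F4 hp a.pos ha (by omega) χ hχ

/-- **the row `F₄(q)`**, from the case `q = 2` -/
theorem row_F4_of_two
    (htwo : ∀ (F : Type) [Field F] [Fintype F], Fintype.card F = 2 → IsSimpleGroup ↥(chevF4.group F) →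
      Row ↥(chevF4.group F)) {S : Type u} [Group S] [Finite S] (hs : IsSimpleGroup S) (h : Lie.IsoF4 S) : Row S :=
  F4Fin.row_F4_of main_F4 htwo hs h

end Cfsg.Agent.H320.OZ
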