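import Cfsg.Agent.H320.OZ.RowF4
import Cfsg.Agent.H23.OZ.FourTwo

/-!
# S4842: the row `F₄(q)`, all `q` (helper320, helper23)
-/

set_option autoImplicit false

open Cfsg

namespace Cfsg.Agent.H320.OZ

open Cfsg.Lie Cfsg.Agent.H730.OZ

universe u

/-- **the row `F₄(q)`** -/
theorem row_F4 {S : Type u} [Group S] [Finite S] (hs : IsSimpleGroup S) (h : Lie.IsoF4 S) : Row S :=
  row_F4_of_two (fun _ _ _ hF _ => Cfsg.Agent.H23.OZ.F42.row_F4_two hF (MulEquiv.refl _)) hs h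

end Cfsg.Agent.H320.OZ
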