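import Cfsg.Agent.H320.OZ.FiE
import Cfsg.Agent.H3.Ore.Fi22Prime
import Cfsg.Agent.H672.OZ.Full
import Cfsg.Agent.H849.OZ.Bad
import Cfsg.Agent.H733.OZ.Good
import Cfsg.Agent.H730.OZ.Asm
import Cfsg.Agent.H834.Bridge

/-!
# One vanishing class: `Fi22` (helper320, S4842)

`|C(z)| = 13, 22, 42` for `z` of order `13, 11, 7`: the sieve leaves the degrees `1728, 2430, 2985984`.  They are divisible by
three and `25` does not divide `d ^ 2 - 1`: `|C(x)| ≤ 25`.  The rational element `yE` of order nine has `|C(yE)| = 27` and a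
value divisible by three: `8 |C(x)| ≤ 27`.
-/

set_option autoImplicit false
set_option maxRecDepth 100000

open Cfsg Cfsg.Agent.Characters Cfsg.Agent.H732.VZ Cfsg.Agent.H604.OZ Cfsg.Agent.H672.OZ

namespace Cfsg.Agent.H320.OZ

universe u

section seven

open Equiv Equiv.Perm Subgroup
open Cfsg.Spor Cfsg.Spor.Fi22 Cfsg.Agent.Lib.PermNet Cfsg.Agent.Lib.PermNetOrbit Cfsg.Agent.Lib.PermNetFix
open Cfsg.Agent.Fischer Cfsg.Agent.Fischer.Fi22PtsRep
open Cfsg.Agent.H834 Cfsg.Agent.H834.AC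
open Cfsg.Agent.H3.Ore.FC Cfsg.Agent.H3.Ore.FP
open Cfsg.Agent.H836 Cfsg.Agent.KFacts.FiTT

theorem same3 : ∀ σ τ : Perm (Fin 3), (σ = 1 ↔ τ = 1) → (σ ^ 2 = 1 ↔ τ ^ 2 = 1) → ∃ ρ, ρ * σ * ρ⁻¹ = τ := by
  decide +kernel

variable {G : Type*} [Group G] (e : G ≃* Spor.Fi22) (m : Model G (TK e))

include m e in
theorem cls7 (y y' : G) (hy : m.wd u7 * y = y * m.wd u7) (hy' : m.wd u7 * y' = y' * m.wd u7) (h7 : ¬ 7 ∣ orderOf y)
    (ho : orderOf y = orderOf y') : ∃ k : G, m.wd u7 * k = k * m.wd u7 ∧ k * y * k⁻¹ = y' := by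
  obtain ⟨φ, hinj, hφ⟩ := m.exists_phi3
  have hu := m.orderOf_u7
  have hcu : ∀ σ, Commute (m.wd u7) (φ σ) := comm_of_path φ (fun i => by rw [hφ]; exact (m.q7_spec i.2).1)
  have key : ∀ c : G, m.wd u7 * c = c * m.wd u7 → ¬ 7 ∣ orderOf c → ∃ σ, c = φ σ := by
    intro c hc h7
    obtain ⟨i, hi, σ, rfl⟩ := cent_prod φ (by norm_num) hu hcu hinj cen3
      (by rw [Cfsg.Agent.H559.FiSpec.cent7 ⟨e⟩ hu]; rfl) hc.symm
    have h6 : ∀ σ : Perm (Fin 3), σ ^ 6 = 1 := by decide +kernel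
    have h1 : (m.wd u7 ^ i * φ σ) ^ 6 = m.wd u7 ^ (i * 6) := by
      rw [((hcu σ).pow_left i).mul_pow, ← map_pow, h6, map_one, mul_one, ← pow_mul]
    have h2 : ((m.wd u7 ^ i * φ σ) ^ 6) ^ 7 = 1 := by
      rw [h1, ← pow_mul, mul_comm, pow_mul, m.u7_pow, one_pow]
    have h3 : orderOf ((m.wd u7 ^ i * φ σ) ^ 6) = 1 := by
      rcases (Nat.dvd_prime (by norm_num : Nat.Prime 7)).1 (orderOf_dvd_of_pow_eq_one h2) with h | h
      · exact h
      · exact absurd (h ▸ orderOf_pow_dvd 6) h7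
    rw [orderOf_eq_one_iff, h1] at h3
    have h4 := orderOf_dvd_of_pow_eq_one h3
    rw [hu] at h4
    have h5 : i = 0 := by omega
    exact ⟨σ, by rw [h5, pow_zero, one_mul]⟩
  obtain ⟨σ, rfl⟩ := key y hy h7
  obtain ⟨τ, rfl⟩ := key y' hy' (ho ▸ h7)
  have hpow : ∀ n, σ ^ n = 1 ↔ τ ^ n = 1 := by
    intro n
    have h1 : ∀ ρ : Perm (Fin 3), ρ ^ n = 1 ↔ orderOf (φ ρ) ∣ n := by
      intro ρ
      rw [orderOf_dvd_iff_pow_eq_one, ← map_pow, map_eq_one_iff φ hinj]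
    rw [h1, h1, ho]
  obtain ⟨ρ, hρ⟩ := same3 σ τ (by simpa using hpow 1) (hpow 2)
  exact ⟨φ ρ, (hcu ρ).eq, by rw [← map_mul, ← map_inv, ← map_mul, hρ]⟩

end seven

/-- the order -/
abbrev NF : ℕ := 64561751654400

/-- its factorization -/
def lF : List (ℕ × ℕ) := [(2, 17), (3, 9), (5, 2), (7, 1), (11, 1), (13, 1)]

theorem primes_ok : ∀ x ∈ lF, x.1.Prime := by
  intro x hx
  simp only [lF, List.mem_cons, List.not_mem_nil, or_false] at hx
  rcases hx with rfl | rfl | rfl | rfl | rfl | rfl <;> norm_num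

/-- `d = ± 1` modulo `r` -/
def pm (r d : ℕ) : Bool := Nat.beq (Nat.mod d r) 1 || Nat.beq (Nat.mod d r) (Nat.sub r 1)

theorem pm_of {r d : ℕ} (h : d % r = 1 ∨ d % r = r - 1) : pm r d = true := by
  unfold pm
  rw [Bool.or_eq_true]
  rcases h with h | h
  · exact .inl (by rw [Nat.beq_eq]; exact h)
  · exact .inr (by rw [Nat.beq_eq]; exact h)

theorem sieve : ((Cfsg.Agent.H417.Divs.divs lF).all fun d => !(okd NF 4 lF [13] d) || (!(pm 11 d) || (!(pm 7 d) ||
    [1728, 2430, 2985984].contains d))) = true := by decide +kernel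

/-- **`Fi22`.** -/
theorem row_fi22 {S : Type u} [Group S] [Finite S] (_ : IsSimpleGroup S) (hS : Spor.IsoFi22 S) : H730.OZ.Row S := by
  have hN : Nat.card S = NF := H559.FiSpec.card_eq hS
  have hS' := hS
  obtain ⟨e⟩ := hS
  obtain ⟨m⟩ := Cfsg.Agent.H834.Bridge.model_of_iso e (D := Cfsg.Agent.KFacts.FiTT.TK e) rfl
  refine row_of fun χ x h => ?_
  have h4 : 4 ≤ cent x := four_le_cent h (by rw [hN]; norm_num) (by rw [hN]; norm_num)
  -- regular at 7 and 11
  have reg : ∀ p : ℕ, p.Prime → p ∣ NF → ¬ p ^ 2 ∣ NF → (∀ z : S, orderOf z = p →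
      p < Nat.card (Subgroup.centralizer ({z} : Set S))) → ¬ p ∣ orderOf x := by
    intro p hp hd h2 hC
    have hF : Fact p.Prime := ⟨hp⟩
    obtain ⟨z, hz⟩ := exists_prime_orderOf_dvd_card' (G := S) p (by rw [hN]; exact hd)
    rcases Nat.lt_or_ge p (cent x) with h5 | h5
    · exact H733.OZ.not_dvd_orderOf h hp (n := 1) (by rw [pow_one, hN]; exact hd) (by rw [hN]; exact h2)
        (by rw [pow_one]; exact h5)
    · exact H849.OZ.not_dvd_of_le hp (by rw [hN]; exact h2) hz (hC z hz) h5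
  have hx11 := reg 11 (by norm_num) (by norm_num) (by norm_num) fun z hz => by
    rw [H559.FiSpec.cent11 hS' hz]; norm_num
  have hx7 := reg 7 (by norm_num) (by norm_num) (by norm_num) fun z hz => by
    rw [H559.FiSpec.cent7 hS' hz]; norm_num
  have i13 := iso_mod h (p := 13) (by norm_num) (by norm_num) (by rw [hN]; norm_num) (by rw [hN]; norm_num)
    (by rw [hN]; norm_num) (fun y hy => H559.FiSpec.cent13 hS' hy) h4
  have m11 : charDegree (χ : S → ℂ) % 11 = 1 ∨ charDegree (χ : S → ℂ) % 11 = 11 - 1 := by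
    have hF : Fact (Nat.Prime 11) := ⟨by norm_num⟩
    obtain ⟨z, hz⟩ := exists_prime_orderOf_dvd_card' (G := S) 11 (by rw [hN]; norm_num)
    exact H849.OZ.mod_of_two (by norm_num) (by norm_num) (by rw [hN]; norm_num) (by rw [hN]; norm_num) hz
      (H559.FiSpec.cent11 hS' hz) h hx11 h4
  have m7 : charDegree (χ : S → ℂ) % 7 = 1 ∨ charDegree (χ : S → ℂ) % 7 = 7 - 1 :=
    H849.OZ.mod_of_classes (by norm_num) (by norm_num) (by rw [hN]; norm_num) (by rw [hN]; norm_num) m.orderOf_u7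
      (fun y y' h1 h2 h3 h5 => cls7 e m y y' h1 h2 h3 h5) h hx7 h4
  have hok := okd_of h hN (c0 := 4) (l := lF) (iso := [13]) (by decide +kernel) primes_ok (by decide +kernel) h4
    (by
      intro r hr
      simp only [List.mem_cons, List.not_mem_nil, or_false] at hr
      subst hr
      exact i13)
  have h1 := H417.Divs.all_divs lF primes_ok (N := NF) (by decide +kernel) sieve (d := charDegree (χ : S → ℂ))
    (by rw [← hN]; exact deg_dvd χ)
  rw [hok, pm_of m11, pm_of m7, Bool.not_true, Bool.false_or, Bool.false_or, Bool.false_or, List.contains_iff_mem] at h1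
  simp only [List.mem_cons, List.not_mem_nil, or_false] at h1
  -- `|C(x)| ≤ 25`
  have h25 : cent x ≤ 5 ^ 2 := by
    refine H733.OZ.cent_le h (by norm_num) (by rw [hN]; norm_num) (by rw [hN]; norm_num) ?_
    rcases h1 with h1 | h1 | h1 <;> rw [h1] <;> norm_num
  have hd3 : 3 ∣ charDegree (χ : S → ℂ) := by
    rcases h1 with h1 | h1 | h1 <;> rw [h1] <;> norm_num
  have hE : cent (FiE.yE m) = 27 := FiE.card_centE e m
  have hx : ¬ IsConj x (FiE.yE m) := by
    intro hc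
    rw [cent_eq_of_conj hc, hE] at h25
    norm_num at h25
  have h5 := H849.OZ.one_prime h (r := 3) (by norm_num) hd3 ⟨2, by rw [FiE.orderE]; norm_num⟩ (y := FiE.yE m)
    (fun k hk => FiE.ratE m (Nat.Coprime.coprime_dvd_right (by rw [hN]; norm_num) hk)) hx
  rw [hE] at h5
  norm_num at h5
  omega

end Cfsg.Agent.H320.OZ
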