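import Cfsg.Agent.H541.PRegTF4
import Cfsg.Agent.H210.Van.TITorus
import Cfsg.Agent.S1068

/-!
# S4842, row `²F₄(q)`: the tori of orders `q² + q + 1 ± (√(2q³) + √(2q))` (helper320)

* `tori` : in `²F₄(q)`, `q = 2^(2m+1) ≥ 8`, there are cyclic tori `T` of the orders `P`, `N` (`Par`) with `C(y) = T` for
  `1 ≠ y ∈ T` and `|N(T)| = 12 |T|`;
* `tori_cong` : if `χ` vanishes exactly on the class of `x`, `5 ≤ |C(x)|`, then `χ(1) ≡ ± 1` modulo `P` and modulo `N`.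
-/

set_option autoImplicit false
set_option linter.unusedSectionVars false

namespace Cfsg.Agent.H320.OZ.TwF4Tor

open Subgroup Cfsg Cfsg.Lie Cfsg.Agent.H541.PRegTorus Cfsg.Agent.H541.PRegTF4 Cfsg.Agent.H504.ZeroTI
  Cfsg.Agent.H956.OZ.Loc Cfsg.Agent.H732.VZ

universe u

/-- a cyclic torus of order `t` that is the centralizer of each of its elements `≠ 1`, with `|N(T)| = w t` -/
def TorX (S : Type u) [Group S] (t w : ℕ) : Prop :=
  ∃ T : Subgroup S, IsCyclic ↥T ∧ Nat.card ↥T = t ∧ CC T ∧ Nat.card ↥(normalizer (T : Set S)) = w * t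

theorem torX_of_iso {S : Type u} [Group S] [Finite S] {t M w s k : ℕ} (h : Iso S t 1 w) (hS : Nat.card S = t * M)
    (hs : s.Prime) (hst : s ∣ t) (hM : M ≡ k [MOD s]) (hks : k < s) : TorX S t k := by
  obtain ⟨T, hc, hm, hT, -⟩ := h
  refine ⟨T, hc, hm, ⟨fun a ha b hb => comm_of_cyclic hc ha hb, fun a ha ha1 => hT a ha (by rwa [pow_one])⟩, ?_⟩
  exact card_normalizer hc hm hT hS hs hst (fun h => hs.one_lt.ne' (Nat.dvd_one.1 h)) hM hks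

section

variable {K : Type u} [Field K] [Fintype K] {m : ℕ} {P N : ℕ}

/-- **The tori of orders `t₊`, `t₋`.** -/
theorem tori (hK : Fintype.card K = 2 ^ (2 * m + 1)) (D : Par (2 ^ m) (2 ^ (2 * m + 1)) P N) :
    TorX ↥(twistedF4 K (2 ^ m)) P 12 ∧ TorX ↥(twistedF4 K (2 ^ m)) N 12 := by
  have hcard := Cfsg.Agent.S1068.result (K := K) hK
  have hcard' : Nat.card ↥(twistedF4 K (2 ^ m)) = (2 ^ (2 * m + 1)) ^ 12 * ((2 ^ (2 * m + 1) - 1) *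
      ((2 ^ (2 * m + 1)) ^ 3 + 1) * ((2 ^ (2 * m + 1)) ^ 4 - 1) * ((2 ^ (2 * m + 1)) ^ 6 + 1)) := by
    rw [hcard]; ring
  obtain ⟨h1, h2⟩ := tor hK rfl D hcard'
  obtain ⟨hN1, hNP, -⟩ := D.P_gt
  rw [D.card_eq] at hcard'
  constructor
  · obtain ⟨s, hs, hsP⟩ := Nat.exists_prime_and_dvd (n := P) (by omega)
    have h13 := D.prime_ge hs (hsP.mul_right N)
    exact torX_of_iso h1 (M := N * TT (2 ^ (2 * m + 1))) (by rw [hcard']; ring) hs hsP (D.P_mod hsP) (by omega)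
  · obtain ⟨s, hs, hsN⟩ := Nat.exists_prime_and_dvd (n := N) (by omega)
    have h13 := D.prime_ge hs (hsN.mul_left P)
    exact torX_of_iso h2 (M := P * TT (2 ^ (2 * m + 1))) (by rw [hcard']; ring) hs hsN (D.N_mod hsN) (by omega)

end

/-- the congruence from one torus -/
theorem TorX.cong {G : Type u} [Group G] [Finite G] {χ : IrrCharacter G} {x : G} (h : One χ x) {t : ℕ}
    (hT : TorX G t 12) (ht : 37 ≤ t) {c : ℕ} (hc : c ≤ Nat.card (centralizer ({x} : Set G))) (hc5 : 5 ≤ c) :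
    ∃ e : ℤ, (e = 1 ∨ e = -1) ∧ (t : ℤ) ∣ (charDegree (χ : G → ℂ) : ℤ) - e ∧
      ∃ T : Subgroup G, IsCyclic ↥T ∧ Nat.card ↥T = t ∧ CC T ∧ Nat.card ↥(normalizer (T : Set G)) = 12 * t ∧
        ∀ a ∈ T, a ≠ 1 → (χ : G → ℂ) a = (e : ℂ) := by
  obtain ⟨T, hcy, hTt, hCC, hN⟩ := hT
  have h1 : (t - 1) * (c * (t - 1) + 12 * t) < c * (t * 12 * (t - 1 - 12)) := by
    obtain ⟨n, rfl⟩ : ∃ n, t = n + 37 := ⟨t - 37, by omega⟩
    obtain ⟨d, rfl⟩ : ∃ d, c = d + 5 := ⟨c - 5, by omega⟩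
    have e1 : n + 37 - 1 = n + 36 := by omega
    have e2 : n + 36 - 12 = n + 24 := by omega
    rw [e1, e2]
    nlinarith [Nat.zero_le n, Nat.zero_le d, Nat.zero_le (n * d), Nat.zero_le (n * n), Nat.zero_le (n * n * d)]
  have h2 : 12 * t < 3 * c * (t - 1) := by
    obtain ⟨n, rfl⟩ : ∃ n, t = n + 37 := ⟨t - 37, by omega⟩
    obtain ⟨d, rfl⟩ : ∃ d, c = d + 5 := ⟨c - 5, by omega⟩
    have e1 : n + 37 - 1 = n + 36 := by omega
    rw [e1]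
    nlinarith [Nat.zero_le n, Nat.zero_le d, Nat.zero_le (n * d)]
  obtain ⟨e, he, hv, hd⟩ := Cfsg.Agent.H210.Van.torus h hCC hTt hN (by norm_num) hc (by omega) h1 h2
  exact ⟨e, he, hd, T, hcy, hTt, hCC, hN, hv⟩

/-- the orders `t₋ < t₊` are at least `37` -/
theorem le_N {b q P N : ℕ} (D : Par b q P N) : 37 ≤ N ∧ N < P := by
  obtain ⟨-, h2, -⟩ := D.P_gt
  refine ⟨?_, h2⟩
  obtain ⟨-, f2, -, f4⟩ := D.fac
  have hb := D.b_le
  have hq := D.q_eq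
  rw [f4]
  zify [f2]
  rw [hq]
  have hb' : (2 : ℤ) ≤ (b : ℤ) := by exact_mod_cast hb
  generalize (b : ℤ) = b at hb' ⊢
  have e1 : 0 ≤ (b - 2) * b := mul_nonneg (by linarith) (by linarith)
  have e2 : 0 ≤ (b - 2) * b * b := mul_nonneg e1 (by linarith)
  have e3 : 0 ≤ (b - 2) * b * b * b := mul_nonneg e2 (by linarith)
  nlinarith

/-- **`χ(1) ≡ ± 1` modulo `t₊` and modulo `t₋`.** -/
theorem tori_cong {K : Type u} [Field K] [Fintype K] {m : ℕ} {P N : ℕ} (hK : Fintype.card K = 2 ^ (2 * m + 1))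
    (D : Par (2 ^ m) (2 ^ (2 * m + 1)) P N) [Finite ↥(twistedF4 K (2 ^ m))] {χ : IrrCharacter ↥(twistedF4 K (2 ^ m))}
    {x : ↥(twistedF4 K (2 ^ m))} (h : One χ x) (hc : 5 ≤ Nat.card (centralizer ({x} : Set ↥(twistedF4 K (2 ^ m))))) :
    ∃ e e' : ℤ, (e = 1 ∨ e = -1) ∧ (e' = 1 ∨ e' = -1) ∧
      (P : ℤ) ∣ (charDegree (χ : ↥(twistedF4 K (2 ^ m)) → ℂ) : ℤ) - e ∧
      (N : ℤ) ∣ (charDegree (χ : ↥(twistedF4 K (2 ^ m)) → ℂ) : ℤ) - e' := by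
  obtain ⟨h1, h2⟩ := tori hK D
  obtain ⟨l1, l2⟩ := le_N D
  obtain ⟨e, he, hd, -⟩ := TorX.cong h h1 (by omega) hc le_rfl
  obtain ⟨e', he', hd', -⟩ := TorX.cong h h2 (by omega) hc le_rfl
  exact ⟨e, e', he, he', hd, hd'⟩

end Cfsg.Agent.H320.OZ.TwF4Tor
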